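import Mathlib
import Cfsg.Prelude.Def_GeometricClasses
import Cfsg.Agent.Lib.Helper27.ASC.Defs
import Cfsg.Agent.Lib.helper23.ASCO.Defs
import Cfsg.Agent.Lib.Helper19.ASG.Defs
import Cfsg.Agent.Lib.Helper25.ASO.Defs
import Cfsg.Agent.Lib.helper23.ASE.Defs
-- landed pieces of ASE
import Cfsg.Agent.Lib.Helper13.ASETAU
import Cfsg.Agent.Lib.Helper16.ASEPAIR2
import Cfsg.Agent.Lib.helper4.ASEPAIRT
import Cfsg.Agent.Lib.helper4.ASECGRAM
import Cfsg.Agent.Lib.helper23.ASECSWAP
import Cfsg.Agent.Lib.helper6.ASETENS2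
-- landed pieces of ASO
import Cfsg.Agent.Lib.Helper1.ASODEC2
import Cfsg.Agent.Lib.Helper20.ASOIDEM
import Cfsg.Agent.Lib.Helper20.ASOSTAR
import Cfsg.Agent.Lib.Helper25.ASOADJ
-- landed pieces of ASG
import Cfsg.Agent.Lib.Helper1.ASGCLIF5
import Cfsg.Agent.Lib.Helper1.ASGCNORM
import Cfsg.Agent.Lib.Helper10.ASGCONE
import Cfsg.Agent.Lib.Helper10.ASGCSWAP
import Cfsg.Agent.Lib.Helper20.ASGCDIM
import Cfsg.Agent.Lib.Helper24.ASGCASM
import Cfsg.Agent.Lib.Helper25.ASGCFULL
import Cfsg.Agent.Lib.helper8.ASCSCHURN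
import Cfsg.Agent.Lib.Helper18.ASCSCHURB
import Cfsg.Agent.Lib.Helper28.Ld.Trans
import Cfsg.Agent.Lib.helper23.ASCOMain
import Cfsg.Agent.Lib.Helper10.ASCIRRNS
import Cfsg.Agent.Lib.Helper21.ASCES3
import Cfsg.Agent.Lib.Helper25.ASCCENT

/-!
# Project E12P (helper26) : the GENERAL-`n` dichotomy (blocks AB + C with a quadratic form, all characteristics)

`edichotomy` : `G ≤ O(Q)` irreducible on `F^n` (`3 ≤ n`), `M ⊴ G`.  Then one of
1. `G` stabilises an orthogonal decomposition into isometric non-degenerate blocks;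
2. `G` stabilises a pair of totally singular subspaces `V = D 0 ⊕ D 1`;
3. `G` normalises a field of prime degree `r ∣ n`;
4. `G` lies in a tensor product group `k ⊗ d` (`2 ≤ k`, `2 ≤ d`) and the Gram matrix of the polar form is `A ⊗ B` with `A`, `B` both
   symmetric or both skew-symmetric; in characteristic 2 both have zero diagonal and `Q` vanishes on the pure tensors;
5. `M` is scalar;
6. `M` is absolutely irreducible.
It is `helper23.ASE.e8_dichotomy` (Main of S5826) with the dimension-8 arithmetic removed: the data are returned instead of being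
turned into "plus type".  Reusable for every even-dimensional orthogonal row (S5847, S5850, S5871, S5874).
-/

set_option autoImplicit false
set_option linter.unusedVariables false
set_option linter.unusedSectionVars false

namespace Cfsg.Agent.Lib.Helper26.E12P

open Cfsg Cfsg.Geo Cfsg.Agent.Lib.Helper27.ASC Cfsg.Agent.Lib.helper23.ASCO Cfsg.Agent.Lib.Helper19.ASG
  Cfsg.Agent.Lib.Helper25.ASO Cfsg.Agent.Lib.helper23.ASE
open scoped MatrixGroups Matrix Kronecker

variable {n : ℕ} {F : Type*} [Field F] [Fintype F]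

/-- a non-trivial idempotent in the centre of the commutant of a subgroup normalised by an irreducible group of isometries gives an
orthogonal decomposition or a pair of totally singular subspaces -/
theorem eidem_cases (hn : 3 ≤ n) (Q : QuadraticForm F (Fin n → F)) (hQ : (QuadraticMap.polarBilin Q).Nondegenerate)
    {G M : Subgroup (GL (Fin n) F)} (hG : Irr G) (hGO : G ≤ isometryGroup F (⇑Q)) (hM : NormalIn M G)
    (e₀ : Matrix (Fin n) (Fin n) F) (he₀ : e₀ ∈ asgZ M) (hid : e₀ * e₀ = e₀) (h0 : e₀ ≠ 0) (h1 : e₀ ≠ 1) :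
    (∃ (t k : ℕ) (D : Fin t → Submodule F (Fin n → F)), IsOrthogonalMDecomposition (⇑Q) k D ∧
        G ≤ decompositionStabilizer D) ∨
    (∃ (k : ℕ) (D : Fin 2 → Submodule F (Fin n → F)), IsMDecomposition k D ∧
        (∀ i, IsTotallySingularQuad (⇑Q) (D i)) ∧ G ≤ decompositionStabilizer D) := by
  classical
  obtain ⟨t, E, hE⟩ := idem_system (by omega) hG hM e₀ he₀ hid h0 h1
  obtain ⟨τ, hτ, hτ2, hcase⟩ := idem_adj_perm Q hQ hGO hM E hE
  rcases hcase with hfix | hfp
  · -- self-adjoint idempotents : an orthogonal decomposition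
    have hsa : ∀ i, oadj (⇑Q) (E i) = E i := fun i => by rw [hτ i, hfix i]
    obtain ⟨k, hD, hle⟩ := odec_of_selfadj Q hQ hGO E hE hsa
    exact Or.inl ⟨t, k, _, hD, hle⟩
  · by_cases ht2 : t = 2
    · subst ht2
      have h01 : τ 0 = 1 := by
        have := hfp 0
        have h2 : ∀ j : Fin 2, j ≠ 0 → j = 1 := by decide
        exact h2 _ this
      have hτ0 : oadj (⇑Q) (E 0) = E 1 := by rw [hτ 0, h01]
      obtain ⟨k, hD, hts, hle⟩ := epair_two hn Q hQ hG hGO hM E hE hτ0
      exact Or.inr ⟨k, _, hD, hts, hle⟩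
    · have ht : 2 < t := by
        have := hE.two_le
        omega
      obtain ⟨t', k', D', hD', hle⟩ := epair_many Q hQ hGO hM E hE τ hτ hτ2 hfp ht
      exact Or.inl ⟨t', k', D', hD', hle⟩

/-- blocks AB + C for a quadratic form in any dimension `n ≥ 3`, all characteristics -/
theorem edichotomy (hn : 3 ≤ n) (Q : QuadraticForm F (Fin n → F)) (hQ : (QuadraticMap.polarBilin Q).Nondegenerate)
    {G M : Subgroup (GL (Fin n) F)} (hG : Irr G) (hGO : G ≤ isometryGroup F (⇑Q)) (hM : NormalIn M G) :
    (∃ (t k : ℕ) (D : Fin t → Submodule F (Fin n → F)), IsOrthogonalMDecomposition (⇑Q) k D ∧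
        G ≤ decompositionStabilizer D) ∨
    (∃ (k : ℕ) (D : Fin 2 → Submodule F (Fin n → F)), IsMDecomposition k D ∧
        (∀ i, IsTotallySingularQuad (⇑Q) (D i)) ∧ G ≤ decompositionStabilizer D) ∨
    (∃ (r : ℕ) (K : Subalgebra F (Matrix (Fin n) (Fin n) F)), r.Prime ∧ r ∣ n ∧ IsFieldSubalgebra r K ∧
        G ≤ subalgebraNormalizer K) ∨
    (∃ (k d : ℕ) (e : Fin n ≃ Fin k × Fin d) (P : GL (Fin n) F)
        (A : Matrix (Fin k) (Fin k) F) (B : Matrix (Fin d) (Fin d) F), 2 ≤ k ∧ 2 ≤ d ∧ IsUnit A.det ∧ IsUnit B.det ∧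
        ((Aᵀ = A ∧ Bᵀ = B) ∨ (Aᵀ = -A ∧ Bᵀ = -B)) ∧ KronGram (QuadraticMap.polar (⇑Q)) e P A B ∧
        G ≤ tensorProductSubgroup k d e P ∧
        ((2 : F) = 0 → (Aᵀ = A ∧ Bᵀ = B) ∧ (∀ i, A i i = 0) ∧ (∀ j, B j j = 0) ∧
          ∀ (u : Fin k → F) (w : Fin d → F), Q (pureVec e P u w) = 0)) ∨
    M ≤ scalars (Fin n) F ∨ AbsIrr M := by
  classical
  have hn0 : 0 < n := by omega
  by_cases hidem : ∀ e ∈ asgZ M, e * e = e → e = 0 ∨ e = 1
  · have hfield := asgclif_field hn0 hG hM hidem
    by_cases hb2 : 2 ≤ Module.finrank F (asgZ M)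
    · -- a field
      right; right; left
      obtain ⟨r, K', hr, -, h1, h2', h3⟩ := asgclif_primesub (asgZ M) hfield hb2
      have hdvd : r ∣ n := field_finrank_dvd hn0 K' h1
      exact ⟨r, K', hr, hdvd, h1, (asgclif_normalizes_Z hM).trans h3⟩
    · -- the centre is `F`
      haveI : Nonempty (Fin n) := ⟨⟨0, hn0⟩⟩
      have hb1 : Module.finrank F (asgZ M) = 1 := by
        have h0 : Module.finrank F (asgZ M) ≠ 0 := by
          intro h0
          haveI : Subsingleton (asgZ M) := Module.finrank_zero_iff.mp h0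
          have h01 : (0 : asgZ M) = 1 := Subsingleton.elim _ _
          have h2 := congrArg (fun y : asgZ M => (y : Matrix (Fin n) (Fin n) F)) h01
          simp at h2
        omega
      have hbot : asgZ M = ⊥ := Subalgebra.finrank_eq_one_iff.mp hb1
      obtain ⟨k, ⟨φ⟩⟩ := asgclif_matrix hn0 hG hM (fun z hz => by
        rw [hbot, Algebra.mem_bot] at hz
        obtain ⟨c, rfl⟩ := hz
        exact ⟨c, Algebra.algebraMap_eq_smul_one c⟩)
      obtain ⟨hk0, hkn⟩ := cent_matrix_le hn0 φ
      rcases Nat.lt_or_ge 1 k with hk1 | hk1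
      · rcases Nat.lt_or_ge k n with hlt | hge
        · -- tensor decomposition
          right; right; right; left
          obtain ⟨d, e, P, hstd⟩ := std_embedding (n := n) hk0
            ((centAlg M).val.comp (φ.symm : Matrix (Fin k) (Fin k) F →ₐ[F] centAlg M))
          have hnkd : n = k * d := by
            have := Fintype.card_congr e
            simpa using this
          have hd2 : 2 ≤ d := by
            rcases Nat.lt_or_ge d 2 with hd | hd
            · exfalso
              interval_cases d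
              · omega
              · omega
            · exact hd
          have hGle : G ≤ tensorProductSubgroup k d e P :=
            (normalizes_cent hM).trans
              (normalizer_le_tensor hk0 (centAlg M) φ e P (fun a => hstd a))
          have hstar : ∀ a : Matrix (Fin k) (Fin k) F, ∃ a' : Matrix (Fin k) (Fin k) F,
              oadj (⇑Q) ((P : Matrix (Fin n) (Fin n) F) *
                  Matrix.reindexAlgEquiv F F e.symm (a ⊗ₖ (1 : Matrix (Fin d) (Fin d) F)) *
                  ((P⁻¹ : GL (Fin n) F) : Matrix (Fin n) (Fin n) F)) =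
                (P : Matrix (Fin n) (Fin n) F) *
                  Matrix.reindexAlgEquiv F F e.symm (a' ⊗ₖ (1 : Matrix (Fin d) (Fin d) F)) *
                  ((P⁻¹ : GL (Fin n) F) : Matrix (Fin n) (Fin n) F) := by
            intro a
            have h1 : oadj (⇑Q) (((φ.symm a : centAlg M) : Matrix (Fin n) (Fin n) F)) ∈ centAlg M :=
              star_mem_cent Q hQ (hM.1.trans hGO) _ (φ.symm a).2
            refine ⟨φ ⟨_, h1⟩, ?_⟩
            have h2' := hstd (φ ⟨_, h1⟩)
            have h3 := hstd a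
            have e2 : ((centAlg M).val.comp (φ.symm : Matrix (Fin k) (Fin k) F →ₐ[F] centAlg M)) (φ ⟨_, h1⟩) =
                oadj (⇑Q) (((φ.symm a : centAlg M) : Matrix (Fin n) (Fin n) F)) := by
              change ((φ.symm (φ ⟨_, h1⟩) : centAlg M) : Matrix (Fin n) (Fin n) F) = _
              rw [AlgEquiv.symm_apply_apply]
            have e3 : ((centAlg M).val.comp (φ.symm : Matrix (Fin k) (Fin k) F →ₐ[F] centAlg M)) a =
                ((φ.symm a : centAlg M) : Matrix (Fin n) (Fin n) F) := rfl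
            rw [← h3, ← h2', e2, e3]
          obtain ⟨A, B, hA, hB, hsign, hAB⟩ := etensor_gram hn0 Q hQ e P hstar
          -- the symmetric matrices in characteristic 2
          have hsym2 : (2 : F) = 0 → Aᵀ = A ∧ Bᵀ = B := by
            intro h2
            have hneg : ∀ {m : ℕ} (X : Matrix (Fin m) (Fin m) F), -X = X := by
              intro m X
              have h2' : (2 : F) • X = 0 := by rw [h2, zero_smul]
              rw [two_smul] at h2'
              exact neg_eq_of_add_eq_zero_left h2'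
            rcases hsign with h | h
            · exact h
            · exact ⟨by rw [h.1, hneg], by rw [h.2, hneg]⟩
          refine ⟨k, d, e, P, A, B, hk1, hd2, hA, hB, hsign, hAB, hGle, fun h2 => ?_⟩
          obtain ⟨hAs, hBs⟩ := hsym2 h2
          obtain ⟨hAa, hBa⟩ := etensor_alt_char2 h2 Q hQ hG hGO hk1 hd2 e P hGle A B hA hB hAs hBs hAB
          exact ⟨⟨hAs, hBs⟩, hAa, hBa,
            etensor_pure_char2 h2 Q hQ hG hGO hk1 hd2 e P hGle A B hAa hBa hAs hBs hAB⟩
        · have hkn' : k = n := le_antisymm hkn hge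
          subst hkn'
          exact Or.inr (Or.inr (Or.inr (Or.inr (Or.inl (scalar_of_cent_full φ)))))
      · have hk : k = 1 := by omega
        subst hk
        exact Or.inr (Or.inr (Or.inr (Or.inr (Or.inr (absIrr_of_cent_one hG hM φ)))))
  · push Not at hidem
    obtain ⟨e0, he0, hid0, h00, h01⟩ := hidem
    rcases eidem_cases hn Q hQ hG hGO hM e0 he0 hid0 h00 h01 with h | h
    · exact Or.inl h
    · exact Or.inr (Or.inl h)

end Cfsg.Agent.Lib.Helper26.E12P
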