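import Mathlib
import Cfsg.Prelude.Def_GeometricClasses
import Cfsg.Agent.Lib.helper15.TX2SCOMMON
import Cfsg.Agent.Lib.helper6.PlusMain
import Cfsg.Agent.Lib.helper6.SPXU3Na

set_option autoImplicit false
set_option linter.unusedVariables false
set_option linter.unusedSectionVars false

namespace Cfsg.Agent.Lib.Helper26.E12P

open Cfsg Cfsg.Geo Cfsg.Agent.Lib.Helper15.TX2S
open scoped MatrixGroups Matrix

variable {n : ℕ} {F : Type*} [Field F] [Fintype F]

/-- `|F| = 3`: the isometries stabilising an orthogonal decomposition into `t` hyperbolic planes stabilise the non-degenerate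
`t`-space spanned by the vectors `u_i + v_i` (the vectors of the blocks with `Q = 1`). -/
theorem p12_q3_half (hq : Fintype.card F = 3) (Q : QuadraticForm F (Fin n → F))
    {t : ℕ} (D : Fin t → Submodule F (Fin n → F)) (hD : IsOrthogonalMDecomposition (⇑Q) 2 D)
    (hp : ∀ i, IsPlusTypeOn (⇑Q) (D i)) :
    ∃ W : Submodule F (Fin n → F), Module.finrank F W = t ∧ IsNondegenerateOn (QuadraticMap.polar (⇑Q)) W ∧
      decompositionStabilizer D ⊓ isometryGroup F (⇑Q) ≤ subspaceStabilizer W := by
  classical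
  obtain ⟨u, v, hu, hv, hQu, hQv, huv, hrep, hQab⟩ := tx2scommon_bases Q D hD hp
  obtain ⟨h3, htri⟩ := Cfsg.Agent.Lib.helper6.SPX.spxu3n_three hq
  have h2 : (2 : F) ≠ 0 := by
    intro h
    have h1 : (1 : F) = 0 := by linear_combination h3 - h
    exact one_ne_zero h1
  obtain ⟨p, hpdef⟩ : ∃ p : Fin t → (Fin n → F), ∀ i, p i = u i + v i := ⟨fun i => u i + v i, fun _ => rfl⟩
  have hpD : ∀ i, p i ∈ D i := fun i => by rw [hpdef]; exact (D i).add_mem (hu i) (hv i)
  have hQp : ∀ i, Q (p i) = 1 := by
    intro i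
    have := hQab i 1 1
    rw [one_smul, one_smul, mul_one] at this
    rw [hpdef]; exact this
  have hpp : ∀ i, QuadraticMap.polar (⇑Q) (p i) (p i) = 2 := by
    intro i
    rw [tx2scommon_polar_self, hQp, mul_one]
  have hpo : ∀ i j, i ≠ j → QuadraticMap.polar (⇑Q) (p i) (p j) = 0 := fun i j hij =>
    hD.decomp.orthogonal i j hij (p i) (hpD i) (p j) (hpD j)
  -- polar against a combination
  have hcomb : ∀ (x : Fin t → F) (j : Fin t),
      QuadraticMap.polar (⇑Q) (p j) (∑ i, x i • p i) = 2 * x j := by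
    intro x j
    have h1 : QuadraticMap.polar (⇑Q) (p j) (∑ i, x i • p i) =
        ∑ i, QuadraticMap.polar (⇑Q) (p j) (x i • p i) :=
      map_sum (QuadraticMap.polarBilin Q (p j)) (fun i => x i • p i) Finset.univ
    rw [h1, Finset.sum_eq_single j]
    · rw [tx2scommon_polar_smul_right, hpp, mul_comm]
    · intro i _ hij
      rw [tx2scommon_polar_smul_right, hpo j i (Ne.symm hij), mul_zero]
    · intro h; exact absurd (Finset.mem_univ j) h
  have hli : LinearIndependent F p := by
    rw [Fintype.linearIndependent_iff]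
    intro x hx j
    have h1 := hcomb x j
    rw [hx] at h1
    have h0 : QuadraticMap.polar (⇑Q) (p j) 0 = 0 := by
      have := map_zero (QuadraticMap.polarBilin Q (p j))
      exact this
    rw [h0] at h1
    rcases mul_eq_zero.mp h1.symm with h | h
    · exact absurd h h2
    · exact h
  refine ⟨Submodule.span F (Set.range p), ?_, ?_, ?_⟩
  · rw [finrank_span_eq_card hli, Fintype.card_fin]
  · intro w hw hw0
    obtain ⟨x, rfl⟩ := (Submodule.mem_span_range_iff_exists_fun F).mp hw
    have hx : ∃ j, x j ≠ 0 := by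
      by_contra hcon
      push Not at hcon
      apply hw0
      apply Finset.sum_eq_zero
      intro i _
      rw [hcon i, zero_smul]
    obtain ⟨j, hj⟩ := hx
    have hpj : p j ∈ Submodule.span F (Set.range p) := Submodule.subset_span ⟨j, rfl⟩
    have hne : QuadraticMap.polar (⇑Q) (p j) (∑ i, x i • p i) ≠ 0 := by
      rw [hcomb]; exact mul_ne_zero h2 hj
    refine ⟨⟨p j, hpj, hne⟩, ⟨p j, hpj, ?_⟩⟩
    rw [QuadraticMap.polar_comm]; exact hne
  · intro g hg
    obtain ⟨σ, -, hact⟩ := tx2scommon_act Q D u v hu hv hQu hQv huv hrep hQab g hg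
    apply Cfsg.Agent.Lib.helper6.Plus.mem_stab_of_forall
    intro w hw
    obtain ⟨x, rfl⟩ := (Submodule.mem_span_range_iff_exists_fun F).mp hw
    rw [Matrix.mulVec_sum]
    apply Submodule.sum_mem
    intro i _
    rw [Matrix.mulVec_smul]
    apply Submodule.smul_mem
    obtain ⟨c, hc0, hcase⟩ := hact i
    have hcinv : c⁻¹ = c := by
      rcases htri c with h | h | h
      · exact absurd h hc0
      · rw [h, inv_one]
      · rw [h]; norm_num
    have hgp : (g : Matrix (Fin n) (Fin n) F) *ᵥ p i = c • p (σ i) := by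
      rw [hpdef, hpdef, Matrix.mulVec_add]
      rcases hcase with ⟨h1, h2'⟩ | ⟨h1, h2'⟩
      · rw [h1, h2', hcinv, smul_add]
      · rw [h1, h2', hcinv, smul_add, add_comm]
    rw [hgp]
    exact Submodule.smul_mem _ _ (Submodule.subset_span ⟨σ i, rfl⟩)

end Cfsg.Agent.Lib.Helper26.E12P
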