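import Mathlib
import Cfsg.Prelude.Def_GeometricClasses
import Cfsg.Agent.Lib.Helper27.ASC.Defs
import Cfsg.Agent.Lib.helper23.ASCO.Defs
import Cfsg.Agent.Lib.Helper19.ASG.Defs
import Cfsg.Agent.Lib.Helper25.ASO.Defs
import Cfsg.Agent.Lib.helper23.ASE.Defs
import Cfsg.Agent.Lib.Helper26.E12P.Defs
import Cfsg.Agent.Lib.Helper26.E12P.Dich
-- landed pieces of ASE and its Main (S5826)
import Cfsg.Agent.Lib.helper23.ASEMain
import Cfsg.Agent.Lib.helper23.ASEPR
import Cfsg.Agent.Lib.helper23.ASERED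
import Cfsg.Agent.Lib.helper23.ASEQRAT
import Cfsg.Agent.Lib.helper23.ASEODDNDb
import Cfsg.Agent.Lib.Helper16.ASEPERP
import Cfsg.Agent.Lib.helper8.ASEPLANE23
-- positive rows
import Cfsg.Agent.Lib.Helper11.ASEPRB
import Cfsg.Agent.Lib.Helper11.ASEPRC
import Cfsg.Agent.Lib.Helper11.ASEPRD
import Cfsg.Agent.Lib.Helper11.ASEPRE
import Cfsg.Agent.Lib.Helper11.ASEPRF
-- pre-landed generic blocks
import Cfsg.Agent.Lib.Helper10.QFAMB
import Cfsg.Agent.Lib.Helper10.TX2SPQ2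
import Cfsg.Agent.Lib.Helper10.TX2SMQ3
import Cfsg.Agent.Lib.Helper24.TX2SPQ4
import Cfsg.Agent.Lib.Helper24.TX2SPQ5
import Cfsg.Agent.Lib.Helper1.E12T34
import Cfsg.Agent.Lib.Helper1.EM12D1POW
import Cfsg.Agent.Lib.Helper13.EM12ISOPLUS
import Cfsg.Agent.Lib.helper8.EM12TENS3SYM
import Cfsg.Agent.Lib.helper8.ASECdim2
import Cfsg.Agent.Lib.helper2.LXT2Q2
import Cfsg.Agent.Lib.Helper9.QD2T
import Cfsg.Agent.Lib.Helper10.ASCSUBF2
import Cfsg.Agent.Lib.Helper10.ASCOFRSUBcore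
import Cfsg.Agent.Lib.Helper11.MEOO3
-- landed pieces of ASC / ASCO / ASG
import Cfsg.Agent.Lib.helper23.ASCOMain
import Cfsg.Agent.Lib.Helper10.ASCIRRNS
import Cfsg.Agent.Lib.Helper21.ASCES3
import Cfsg.Agent.Lib.Helper25.ASCCENT
import Cfsg.Agent.Lib.Helper19.ASCOCONV
import Cfsg.Agent.Lib.Helper28.Ld.Trans
import Cfsg.Agent.Lib.Helper28.OBundle
import Cfsg.Agent.Lib.Helper10.ASGCSWAP
import Cfsg.Agent.S0292
-- the E12P rows
import Cfsg.Agent.Lib.Helper11.E12PWITTC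
import Cfsg.Agent.Lib.Helper11.E12PBLK3
import Cfsg.Agent.Lib.helper8.E12PT3TYPE
import Cfsg.Agent.Lib.Helper13.E12PD3Q3
import Cfsg.Agent.Lib.Helper10.E12PD4Q2
import Cfsg.Agent.Lib.Helper18.QISO
import Cfsg.Agent.Lib.Helper26.E12P.Q3Half
import Cfsg.Statements.S5871

set_option autoImplicit false
set_option linter.unusedVariables false
set_option linter.unusedSectionVars false

/-!
# Project E12P : assembly of S5871 (`Ω_12^+(q)`, all `q`)
-/

namespace Cfsg.Agent.Lib.Helper26.E12P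

open Cfsg Cfsg.Geo Cfsg.Agent.Lib.Helper27.ASC Cfsg.Agent.Lib.helper23.ASCO Cfsg.Agent.Lib.Helper19.ASG
  Cfsg.Agent.Lib.Helper25.ASO Cfsg.Agent.Lib.helper23.ASE
open scoped MatrixGroups Matrix Kronecker

variable {n : ℕ} {F : Type*} [Field F]

theorem p12_alt1 [Fintype F] (Q : (Fin 12 → F) → F) (H : Subgroup (Matrix.GeneralLinearGroup (Fin 12) F))
    (h : (∃ W : Submodule F (Fin 12 → F), W ≠ ⊥ ∧ Cfsg.Geo.IsTotallySingularQuad Q W ∧ Module.finrank F W ≠ 5 ∧ H = Cfsg.Geo.subspaceStabilizer W ⊓ Cfsg.Geo.omegaGL Q)) :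
    ConclP12 Q H := by
  unfold ConclP12
  exact Or.inl h

theorem p12_alt2 [Fintype F] (Q : (Fin 12 → F) → F) (H : Subgroup (Matrix.GeneralLinearGroup (Fin 12) F))
    (h : (Odd (Fintype.card F) ∧ ∃ W : Submodule F (Fin 12 → F), W ≠ ⊥ ∧ W ≠ ⊤ ∧ Odd (Module.finrank F W) ∧ 2 * Module.finrank F W ≠ 12 ∧ Cfsg.Geo.IsNondegenerateOn (QuadraticMap.polar Q) W ∧ H = Cfsg.Geo.subspaceStabilizer W ⊓ Cfsg.Geo.omegaGL Q)) :
    ConclP12 Q H := by
  unfold ConclP12
  exact Or.inr (Or.inl h)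

theorem p12_alt3 [Fintype F] (Q : (Fin 12 → F) → F) (H : Subgroup (Matrix.GeneralLinearGroup (Fin 12) F))
    (h : (∃ W : Submodule F (Fin 12 → F), Module.finrank F W = 2 ∧ Cfsg.Geo.IsNondegenerateOn (QuadraticMap.polar Q) W ∧ ¬ Cfsg.Geo.IsPlusTypeOn Q W ∧ H = Cfsg.Geo.subspaceStabilizer W ⊓ Cfsg.Geo.omegaGL Q)) :
    ConclP12 Q H := by
  unfold ConclP12
  exact Or.inr (Or.inr (Or.inl h))

theorem p12_alt4 [Fintype F] (Q : (Fin 12 → F) → F) (H : Subgroup (Matrix.GeneralLinearGroup (Fin 12) F))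
    (h : (4 ≤ Fintype.card F ∧ ∃ W : Submodule F (Fin 12 → F), Module.finrank F W = 2 ∧ Cfsg.Geo.IsNondegenerateOn (QuadraticMap.polar Q) W ∧ Cfsg.Geo.IsPlusTypeOn Q W ∧ H = Cfsg.Geo.subspaceStabilizer W ⊓ Cfsg.Geo.omegaGL Q)) :
    ConclP12 Q H := by
  unfold ConclP12
  exact Or.inr (Or.inr (Or.inr (Or.inl h)))

theorem p12_alt5 [Fintype F] (Q : (Fin 12 → F) → F) (H : Subgroup (Matrix.GeneralLinearGroup (Fin 12) F))
    (h : (∃ W : Submodule F (Fin 12 → F), Module.finrank F W = 4 ∧ Cfsg.Geo.IsNondegenerateOn (QuadraticMap.polar Q) W ∧ H = Cfsg.Geo.subspaceStabilizer W ⊓ Cfsg.Geo.omegaGL Q)) :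
    ConclP12 Q H := by
  unfold ConclP12
  exact Or.inr (Or.inr (Or.inr (Or.inr (Or.inl h))))

theorem p12_alt6 [Fintype F] (Q : (Fin 12 → F) → F) (H : Subgroup (Matrix.GeneralLinearGroup (Fin 12) F))
    (h : (¬ Odd (Fintype.card F) ∧ ∃ v : (Fin 12 → F), Q v ≠ 0 ∧ H = Cfsg.Geo.subspaceStabilizer (Submodule.span F {v}) ⊓ Cfsg.Geo.omegaGL Q)) :
    ConclP12 Q H := by
  unfold ConclP12
  exact Or.inr (Or.inr (Or.inr (Or.inr (Or.inr (Or.inl h)))))

theorem p12_alt7 [Fintype F] (Q : (Fin 12 → F) → F) (H : Subgroup (Matrix.GeneralLinearGroup (Fin 12) F))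
    (h : ((∃ p : ℕ, p.Prime ∧ Odd p ∧ Fintype.card F = p) ∧ ∃ D : Fin 12 → Submodule F (Fin 12 → F), Cfsg.Geo.IsOrthogonalMDecomposition Q 1 D ∧ H = Cfsg.Geo.decompositionStabilizer D ⊓ Cfsg.Geo.omegaGL Q)) :
    ConclP12 Q H := by
  unfold ConclP12
  exact Or.inr (Or.inr (Or.inr (Or.inr (Or.inr (Or.inr (Or.inl h))))))

theorem p12_alt8 [Fintype F] (Q : (Fin 12 → F) → F) (H : Subgroup (Matrix.GeneralLinearGroup (Fin 12) F))
    (h : (7 ≤ Fintype.card F ∧ ∃ D : Fin 6 → Submodule F (Fin 12 → F), Cfsg.Geo.IsOrthogonalMDecomposition Q 2 D ∧ (∀ i, Cfsg.Geo.IsPlusTypeOn Q (D i)) ∧ H = Cfsg.Geo.decompositionStabilizer D ⊓ Cfsg.Geo.omegaGL Q)) :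
    ConclP12 Q H := by
  unfold ConclP12
  exact Or.inr (Or.inr (Or.inr (Or.inr (Or.inr (Or.inr (Or.inr (Or.inl h)))))))

theorem p12_alt9 [Fintype F] (Q : (Fin 12 → F) → F) (H : Subgroup (Matrix.GeneralLinearGroup (Fin 12) F))
    (h : (Fintype.card F ≠ 3 ∧ ∃ D : Fin 6 → Submodule F (Fin 12 → F), Cfsg.Geo.IsOrthogonalMDecomposition Q 2 D ∧ (∀ i, ¬ Cfsg.Geo.IsPlusTypeOn Q (D i)) ∧ H = Cfsg.Geo.decompositionStabilizer D ⊓ Cfsg.Geo.omegaGL Q)) :
    ConclP12 Q H := by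
  unfold ConclP12
  exact Or.inr (Or.inr (Or.inr (Or.inr (Or.inr (Or.inr (Or.inr (Or.inr (Or.inl h))))))))

theorem p12_alt10 [Fintype F] (Q : (Fin 12 → F) → F) (H : Subgroup (Matrix.GeneralLinearGroup (Fin 12) F))
    (h : (Odd (Fintype.card F) ∧ 5 ≤ Fintype.card F ∧ ∃ D : Fin 4 → Submodule F (Fin 12 → F), Cfsg.Geo.IsOrthogonalMDecomposition Q 3 D ∧ H = Cfsg.Geo.decompositionStabilizer D ⊓ Cfsg.Geo.omegaGL Q)) :
    ConclP12 Q H := by
  unfold ConclP12
  exact Or.inr (Or.inr (Or.inr (Or.inr (Or.inr (Or.inr (Or.inr (Or.inr (Or.inr (Or.inl h)))))))))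

theorem p12_alt11 [Fintype F] (Q : (Fin 12 → F) → F) (H : Subgroup (Matrix.GeneralLinearGroup (Fin 12) F))
    (h : (3 ≤ Fintype.card F ∧ ∃ D : Fin 3 → Submodule F (Fin 12 → F), Cfsg.Geo.IsOrthogonalMDecomposition Q 4 D ∧ H = Cfsg.Geo.decompositionStabilizer D ⊓ Cfsg.Geo.omegaGL Q)) :
    ConclP12 Q H := by
  unfold ConclP12
  exact Or.inr (Or.inr (Or.inr (Or.inr (Or.inr (Or.inr (Or.inr (Or.inr (Or.inr (Or.inr (Or.inl h))))))))))

theorem p12_alt12 [Fintype F] (Q : (Fin 12 → F) → F) (H : Subgroup (Matrix.GeneralLinearGroup (Fin 12) F))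
    (h : (∃ D : Fin 2 → Submodule F (Fin 12 → F), Cfsg.Geo.IsOrthogonalMDecomposition Q 6 D ∧ H = Cfsg.Geo.decompositionStabilizer D ⊓ Cfsg.Geo.omegaGL Q)) :
    ConclP12 Q H := by
  unfold ConclP12
  exact Or.inr (Or.inr (Or.inr (Or.inr (Or.inr (Or.inr (Or.inr (Or.inr (Or.inr (Or.inr (Or.inr (Or.inl h)))))))))))

theorem p12_alt13 [Fintype F] (Q : (Fin 12 → F) → F) (H : Subgroup (Matrix.GeneralLinearGroup (Fin 12) F))
    (h : (∃ D : Fin 2 → Submodule F (Fin 12 → F), Cfsg.Geo.IsMDecomposition 6 D ∧ (∀ i, Cfsg.Geo.IsTotallySingularQuad Q (D i)) ∧ H = Cfsg.Geo.decompositionStabilizer D ⊓ Cfsg.Geo.omegaGL Q)) :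
    ConclP12 Q H := by
  unfold ConclP12
  exact Or.inr (Or.inr (Or.inr (Or.inr (Or.inr (Or.inr (Or.inr (Or.inr (Or.inr (Or.inr (Or.inr (Or.inr (Or.inl h))))))))))))

theorem p12_alt14 [Fintype F] (Q : (Fin 12 → F) → F) (H : Subgroup (Matrix.GeneralLinearGroup (Fin 12) F))
    (h : (∃ K : Subalgebra F (Matrix (Fin 12) (Fin 12) F), Cfsg.Geo.IsFieldSubalgebra 2 K ∧ H = Cfsg.Geo.subalgebraNormalizer K ⊓ Cfsg.Geo.omegaGL Q)) :
    ConclP12 Q H := by
  unfold ConclP12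
  exact Or.inr (Or.inr (Or.inr (Or.inr (Or.inr (Or.inr (Or.inr (Or.inr (Or.inr (Or.inr (Or.inr (Or.inr (Or.inr (Or.inl h)))))))))))))

theorem p12_alt15 [Fintype F] (Q : (Fin 12 → F) → F) (H : Subgroup (Matrix.GeneralLinearGroup (Fin 12) F))
    (h : (∃ K : Subalgebra F (Matrix (Fin 12) (Fin 12) F), Cfsg.Geo.IsFieldSubalgebra 3 K ∧ H = Cfsg.Geo.subalgebraNormalizer K ⊓ Cfsg.Geo.omegaGL Q)) :
    ConclP12 Q H := by
  unfold ConclP12
  exact Or.inr (Or.inr (Or.inr (Or.inr (Or.inr (Or.inr (Or.inr (Or.inr (Or.inr (Or.inr (Or.inr (Or.inr (Or.inr (Or.inr (Or.inl h))))))))))))))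

theorem p12_alt16 [Fintype F] (Q : (Fin 12 → F) → F) (H : Subgroup (Matrix.GeneralLinearGroup (Fin 12) F))
    (h : (∃ K : Subalgebra F (Matrix (Fin 12) (Fin 12) F), Cfsg.Geo.IsFieldSubalgebra 2 K ∧ Cfsg.Geo.IsAdjointClosedFor (QuadraticMap.polar Q) K ∧ ¬ Cfsg.Geo.IsSelfAdjointFor (QuadraticMap.polar Q) K ∧ (∀ k ∈ K, ∃ c : F, ∀ v : (Fin 12 → F), Q (Matrix.mulVec k v) = c * Q v) ∧ H = Cfsg.Geo.subalgebraNormalizer K ⊓ Cfsg.Geo.omegaGL Q)) :
    ConclP12 Q H := by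
  unfold ConclP12
  exact Or.inr (Or.inr (Or.inr (Or.inr (Or.inr (Or.inr (Or.inr (Or.inr (Or.inr (Or.inr (Or.inr (Or.inr (Or.inr (Or.inr (Or.inr (Or.inl h)))))))))))))))

theorem p12_alt17 [Fintype F] (Q : (Fin 12 → F) → F) (H : Subgroup (Matrix.GeneralLinearGroup (Fin 12) F))
    (h : (3 ≤ Fintype.card F ∧ ∃ (e : Fin 12 ≃ Fin 2 × Fin 6) (P : Matrix.GeneralLinearGroup (Fin 12) F) (f₁ : (Fin 2 → F) → (Fin 2 → F) → F) (f₂ : (Fin 6 → F) → (Fin 6 → F) → F), Cfsg.Geo.IsSymplecticForm f₁ ∧ Cfsg.Geo.IsSymplecticForm f₂ ∧ Cfsg.Geo.IsTensorFormStructure id (QuadraticMap.polar Q) f₁ f₂ e P ∧ (∀ (x₁ : Fin 2 → F) (x₂ : Fin 6 → F), Q (Matrix.mulVec (P : Matrix (Fin 12) (Fin 12) F) ((fun a : Fin 2 × Fin 6 => x₁ a.1 * x₂ a.2) ∘ e)) = 0) ∧ H = Cfsg.Geo.tensorProductSubgroup 2 6 e P ⊓ Cfsg.Geo.omegaGL Q)) :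
    ConclP12 Q H := by
  unfold ConclP12
  exact Or.inr (Or.inr (Or.inr (Or.inr (Or.inr (Or.inr (Or.inr (Or.inr (Or.inr (Or.inr (Or.inr (Or.inr (Or.inr (Or.inr (Or.inr (Or.inr (Or.inl h))))))))))))))))

theorem p12_alt18 [Fintype F] (Q : (Fin 12 → F) → F) (H : Subgroup (Matrix.GeneralLinearGroup (Fin 12) F))
    (h : (∃ (F₀ : Subfield F) (r : ℕ) (P : Matrix.GeneralLinearGroup (Fin 12) F) (ζ : F), r.Prime ∧ Fintype.card F = Nat.card F₀ ^ r ∧ ζ ≠ 0 ∧ Cfsg.Geo.IsQuadFormRationalStructure (fun v : Fin 12 → F => ζ * Q v) F₀ P ∧ H = Cfsg.Geo.subfieldSubgroup F₀ P ⊓ Cfsg.Geo.omegaGL Q)) :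
    ConclP12 Q H := by
  unfold ConclP12
  exact Or.inr (Or.inr (Or.inr (Or.inr (Or.inr (Or.inr (Or.inr (Or.inr (Or.inr (Or.inr (Or.inr (Or.inr (Or.inr (Or.inr (Or.inr (Or.inr (Or.inr (Or.inl h)))))))))))))))))

theorem p12_alt19 [Fintype F] (Q : (Fin 12 → F) → F) (H : Subgroup (Matrix.GeneralLinearGroup (Fin 12) F))
    (h : Cfsg.Geo.InOrthogonalResidualClass H) :
    ConclP12 Q H := by
  unfold ConclP12
  exact Or.inr (Or.inr (Or.inr (Or.inr (Or.inr (Or.inr (Or.inr (Or.inr (Or.inr (Or.inr (Or.inr (Or.inr (Or.inr (Or.inr (Or.inr (Or.inr (Or.inr (Or.inr h)))))))))))))))))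

variable [Fintype F]

/-- a subspace of dimension strictly between `0` and `n` is proper and non-zero -/
theorem p12_proper {W : Submodule F (Fin n → F)} {d : ℕ} (hd : Module.finrank F W = d) (h0 : 0 < d) (h1 : d < n) :
    W ≠ ⊥ ∧ W ≠ ⊤ := by
  refine ⟨?_, ?_⟩
  · intro h
    rw [h, finrank_bot] at hd
    omega
  · intro h
    rw [h, finrank_top, Module.finrank_fintype_fun_eq_card, Fintype.card_fin] at hd
    omega

/-- `2 ≠ 0` from an odd number of elements -/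
theorem p12_two_ne_zero (hodd : Odd (Fintype.card F)) : (2 : F) ≠ 0 := fun h2 =>
  ase_not_odd_of_two h2 hodd

/-- a field with an odd number of elements has at least three -/
theorem p12_three_le (hodd : Odd (Fintype.card F)) : 3 ≤ Fintype.card F := by
  have h1 : 1 < Fintype.card F := Fintype.one_lt_card
  obtain ⟨j, hj⟩ := hodd
  omega

/-- the order of a finite field is not six -/
theorem p12_card_ne_six : Fintype.card F ≠ 6 := by
  intro h6
  obtain ⟨p, k, hp, hk, hpk⟩ := (FiniteField.isPrimePow_card F)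
  rw [h6] at hpk
  have hp' : p.Prime := Nat.prime_iff.mpr hp
  have h2 : 2 ∣ p ^ k := by rw [hpk]; norm_num
  have h3 : 3 ∣ p ^ k := by rw [hpk]; norm_num
  have e2 := (Nat.prime_dvd_prime_iff_eq Nat.prime_two hp').mp (Nat.prime_two.dvd_of_dvd_pow h2)
  have e3 := (Nat.prime_dvd_prime_iff_eq Nat.prime_three hp').mp (Nat.prime_three.dvd_of_dvd_pow h3)
  omega

section dec

variable (Q : QuadraticForm F (Fin 12 → F)) (hQ : (QuadraticMap.polarBilin Q).Nondegenerate)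
  (H : Subgroup (GL (Fin 12) F)) (hH : IsMaximalIn (omegaGL (⇑Q)) H) (hHO : H ≤ isometryGroup F (⇑Q))

include hQ hH hHO

/-- a frame of twelve isometric lines -/
theorem p12_frame (D : Fin 12 → Submodule F (Fin 12 → F)) (hD : IsOrthogonalMDecomposition (⇑Q) 1 D)
    (hle : H ≤ decompositionStabilizer D) : ConclP12 (⇑Q) H := by
  classical
  have hodd : Odd (Fintype.card F) := odd_card_of_nd_odd Q (D 0) (hD.decomp.nondegenerate 0)
    (by rw [hD.decomp.decomp.finrank_eq 0]; exact odd_one)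
  have h2 : (2 : F) ≠ 0 := p12_two_ne_zero hodd
  by_cases hp : (Fintype.card F).Prime
  · exact p12_alt7 _ _ ⟨⟨_, hp, hodd, rfl⟩, D, hD, max_principle hH hle
      (asepr_omega_not_le_dec (by norm_num) Q hQ D hD.decomp.decomp (Or.inl (p12_three_le hodd)))⟩
  · obtain ⟨F₁, ℓ, -, hℓ, hcard⟩ := exists_prime_index_subfield (⊥ : Subfield F) (ascofrsub_bot_ne_top hp)
    obtain ⟨B, ζ, hζ, hrat, hst⟩ := asepr_frame_subfield h2 Q F₁ D hD
    exact p12_alt18 _ _ ⟨F₁, ℓ, B, ζ, hℓ, hcard, hζ, hrat, max_principle hH ((le_inf hle hHO).trans hst)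
      (omega_not_le_subfield' (by norm_num) Q hQ F₁ (asco_ne_top_of_card_pow hℓ hcard) B)⟩

/-- two isometric non-degenerate halves -/
theorem p12_half (D : Fin 2 → Submodule F (Fin 12 → F)) (hD : IsOrthogonalMDecomposition (⇑Q) 6 D)
    (hle : H ≤ decompositionStabilizer D) : ConclP12 (⇑Q) H :=
  p12_alt12 _ _ ⟨D, hD, max_principle hH hle
    (asepr_omega_not_le_dec_ge2 (by norm_num) Q hQ D hD.decomp.decomp (by norm_num))⟩

/-- six isometric planes -/
theorem p12_planes (hplus : IsPlusTypeOn (⇑Q) ⊤) (D : Fin 6 → Submodule F (Fin 12 → F))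
    (hD : IsOrthogonalMDecomposition (⇑Q) 2 D) (hle : H ≤ decompositionStabilizer D) : ConclP12 (⇑Q) H := by
  classical
  have hnot := asepr_omega_not_le_dec_ge2 (by norm_num) Q hQ D hD.decomp.decomp (le_refl 2)
  have hle' : H ≤ decompositionStabilizer D ⊓ isometryGroup F (⇑Q) := le_inf hle hHO
  by_cases hp0 : IsPlusTypeOn (⇑Q) (D 0)
  · have hp : ∀ i, IsPlusTypeOn (⇑Q) (D i) := fun i =>
      Cfsg.Agent.Lib.helper7.EM12.plus_of_isometric (⇑Q) (D 0) (D i) (hD.isometric 0 i) hp0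
    by_cases h7 : 7 ≤ Fintype.card F
    · exact p12_alt8 _ _ ⟨h7, D, hD, hp, max_principle hH hle hnot⟩
    · have h1 : 1 < Fintype.card F := Fintype.one_lt_card
      have h6 := p12_card_ne_six (F := F)
      have hq : Fintype.card F = 2 ∨ Fintype.card F = 3 ∨ Fintype.card F = 4 ∨ Fintype.card F = 5 := by omega
      rcases hq with hq | hq | hq | hq
      · -- a singular point
        obtain ⟨v, hv0, hQv, hst⟩ := Cfsg.Agent.Lib.Helper15.TX2S.plus_planes_q2 hq Q D hD hp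
        have h2 : (2 : F) = 0 := by
          have := Cfsg.Agent.Lib.helper7.LX.lxt2q2_two hq
          rw [← this]; norm_num
        have hQv0 : Q v = 0 := by
          rw [hQv]
          have : ((6 : ℕ) : F) = 2 * 3 := by norm_num
          rw [this, h2, zero_mul]
        have hts : IsTotallySingularQuad (⇑Q) (Submodule.span F {v}) := by
          intro w hw
          obtain ⟨c, rfl⟩ := Submodule.mem_span_singleton.mp hw
          rw [QuadraticMap.map_smul, hQv0, smul_zero]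
        have hfr : Module.finrank F (Submodule.span F {v}) = 1 := finrank_span_singleton hv0
        obtain ⟨hb, ht⟩ := p12_proper hfr (by norm_num) (by norm_num)
        exact p12_alt1 _ _ ⟨_, hb, hts, by rw [hfr]; norm_num, max_principle hH (hle'.trans hst)
          (omega_not_le_stab' (by norm_num) Q hQ _ hb ht)⟩
      · -- two halves
        obtain ⟨W, hWfr, hWnd, hst⟩ := p12_q3_half hq Q D hD hp
        obtain ⟨D', hD', -, hst'⟩ := Cfsg.Agent.Lib.Helper18.QIso.qiso_half Q hQ (m := 6) (by norm_num)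
          (by norm_num) (by decide) hplus W hWnd hWfr
        exact p12_half Q hQ H hH hHO D' hD' ((le_inf (hle'.trans hst) hHO).trans hst')
      · -- a subfield group over `F_2`
        obtain ⟨F₀, P, hF₀, hrat, hst⟩ := Cfsg.Agent.Lib.Helper15.TX2S.plus_planes_q4 hq Q D hD hp
        have hcard : Fintype.card F = Nat.card F₀ ^ 2 := by rw [hF₀, hq]; norm_num
        exact p12_alt18 _ _ ⟨F₀, 2, P, 1, Nat.prime_two, hcard, one_ne_zero,
          fun u hu => by simpa using hrat u hu, max_principle hH (hle'.trans hst)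
          (omega_not_le_subfield' (by norm_num) Q hQ F₀ (asco_ne_top_of_card_pow Nat.prime_two hcard) P)⟩
      · -- a frame
        obtain ⟨D', hD', hst⟩ := Cfsg.Agent.Lib.Helper15.TX2S.plus_planes_q5 hq Q D hD hp
        exact p12_frame Q hQ H hH hHO D' hD' (hle'.trans hst)
  · have hm : ∀ i, ¬ IsPlusTypeOn (⇑Q) (D i) := fun i h => hp0
      (Cfsg.Agent.Lib.helper7.EM12.plus_of_isometric (⇑Q) (D i) (D 0) (hD.isometric i 0) h)
    by_cases h3 : Fintype.card F = 3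
    · obtain ⟨D', hD', hst⟩ := Cfsg.Agent.Lib.Helper15.TX2S.minus_planes_q3 h3 Q D hD hm
      exact p12_frame Q hQ H hH hHO D' hD' (hle'.trans hst)
    · exact p12_alt9 _ _ ⟨h3, D, hD, hm, max_principle hH hle hnot⟩

/-- four isometric 3-spaces -/
theorem p12_dec43 (D : Fin 4 → Submodule F (Fin 12 → F)) (hD : IsOrthogonalMDecomposition (⇑Q) 3 D)
    (hle : H ≤ decompositionStabilizer D) : ConclP12 (⇑Q) H := by
  classical
  have hodd : Odd (Fintype.card F) := odd_card_of_nd_odd Q (D 0) (hD.decomp.nondegenerate 0)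
    (by rw [hD.decomp.decomp.finrank_eq 0]; decide)
  by_cases h5 : 5 ≤ Fintype.card F
  · exact p12_alt10 _ _ ⟨hodd, h5, D, hD, max_principle hH hle
      (asepr_omega_not_le_dec_ge2 (by norm_num) Q hQ D hD.decomp.decomp (by norm_num))⟩
  · have h3 : Fintype.card F = 3 := by
      have := p12_three_le hodd
      obtain ⟨j, hj⟩ := hodd
      omega
    obtain ⟨D', hD', hst⟩ := dec3_q3_frame h3 Q hQ D hD
    exact p12_frame Q hQ H hH hHO D' hD' ((le_inf hle hHO).trans hst)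

omit hHO in
/-- three isometric 4-spaces -/
theorem p12_dec34 (hplus : IsPlusTypeOn (⇑Q) ⊤) (D : Fin 3 → Submodule F (Fin 12 → F))
    (hD : IsOrthogonalMDecomposition (⇑Q) 4 D) (hHO : H ≤ isometryGroup F (⇑Q))
    (hle : H ≤ decompositionStabilizer D) : ConclP12 (⇑Q) H := by
  classical
  by_cases h3 : 3 ≤ Fintype.card F
  · exact p12_alt11 _ _ ⟨h3, D, hD, max_principle hH hle
      (asepr_omega_not_le_dec_ge2 (by norm_num) Q hQ D hD.decomp.decomp (by norm_num))⟩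
  · have hq : Fintype.card F = 2 := by
      have h1 : 1 < Fintype.card F := Fintype.one_lt_card
      omega
    have hp := three_blocks_plus Q hQ hplus (by decide) D hD
    obtain ⟨t', D', hD', hm, hst⟩ := dec4_plus_q2 hq Q hQ D hD hp
    have hcard := Cfsg.Agent.Lib.Helper28.Ld.card_eq _ hD'.decomp.decomp
    have ht' : t' = 6 := by omega
    subst ht'
    exact p12_alt9 _ _ ⟨by omega, D', hD', hm, max_principle hH ((le_inf hle hHO).trans hst)
      (asepr_omega_not_le_dec_ge2 (by norm_num) Q hQ D' hD'.decomp.decomp (le_refl 2))⟩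

/-- every orthogonal decomposition into isometric blocks -/
theorem p12_of_dec (hplus : IsPlusTypeOn (⇑Q) ⊤) {t k : ℕ} (D : Fin t → Submodule F (Fin 12 → F))
    (hD : IsOrthogonalMDecomposition (⇑Q) k D) (hle : H ≤ decompositionStabilizer D) : ConclP12 (⇑Q) H := by
  have hcard := Cfsg.Agent.Lib.Helper28.Ld.card_eq _ hD.decomp.decomp
  have ht2 := hD.decomp.decomp.two_le
  have hk0 := hD.decomp.decomp.pos
  have ht12 : t ≤ 12 := by nlinarith
  have hk12 : k ≤ 12 := by nlinarith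
  have hcases : (t = 12 ∧ k = 1) ∨ (t = 6 ∧ k = 2) ∨ (t = 4 ∧ k = 3) ∨ (t = 3 ∧ k = 4) ∨ (t = 2 ∧ k = 6) := by
    clear hD hle
    interval_cases t <;> interval_cases k <;> simp_all
  rcases hcases with ⟨rfl, rfl⟩ | ⟨rfl, rfl⟩ | ⟨rfl, rfl⟩ | ⟨rfl, rfl⟩ | ⟨rfl, rfl⟩
  · exact p12_frame Q hQ H hH hHO D hD hle
  · exact p12_planes Q hQ H hH hHO hplus D hD hle
  · exact p12_dec43 Q hQ H hH hHO D hD hle
  · exact p12_dec34 Q hQ H hH hplus D hD hHO hle
  · exact p12_half Q hQ H hH hHO D hD hle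

end dec

end Cfsg.Agent.Lib.Helper26.E12P

namespace Cfsg.Agent.Lib.Helper26.E12P

open Cfsg Cfsg.Geo Cfsg.Agent.Lib.Helper27.ASC Cfsg.Agent.Lib.helper23.ASCO Cfsg.Agent.Lib.Helper19.ASG
  Cfsg.Agent.Lib.Helper25.ASO Cfsg.Agent.Lib.helper23.ASE Cfsg.Agent.Lib.Helper18.ASP
open scoped MatrixGroups Matrix Kronecker

variable {n : ℕ} {F : Type*} [Field F] [Fintype F]

/-- the tensor outcome of the dichotomy -/
def TensData (Q : QuadraticForm F (Fin n → F)) (H : Subgroup (GL (Fin n) F)) (k d : ℕ) : Prop :=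
  ∃ (e : Fin n ≃ Fin k × Fin d) (P : GL (Fin n) F) (A : Matrix (Fin k) (Fin k) F) (B : Matrix (Fin d) (Fin d) F),
    IsUnit A.det ∧ IsUnit B.det ∧ ((Aᵀ = A ∧ Bᵀ = B) ∨ (Aᵀ = -A ∧ Bᵀ = -B)) ∧
    KronGram (QuadraticMap.polar (⇑Q)) e P A B ∧ H ≤ tensorProductSubgroup k d e P ∧
    ((2 : F) = 0 → (Aᵀ = A ∧ Bᵀ = B) ∧ (∀ i, A i i = 0) ∧ (∀ j, B j j = 0) ∧
      ∀ (u : Fin k → F) (w : Fin d → F), Q (pureVec e P u w) = 0)

theorem TensData.swap {Q : QuadraticForm F (Fin n → F)} {H : Subgroup (GL (Fin n) F)} {k d : ℕ}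
    (h : TensData Q H k d) : TensData Q H d k := by
  obtain ⟨e, P, A, B, hA, hB, hsign, hAB, hle, h2⟩ := h
  refine ⟨e.trans (Equiv.prodComm (Fin k) (Fin d)), P, B, A, hB, hA, ?_, kronGram_swap _ e P A B hAB, ?_, ?_⟩
  · rcases hsign with h | h
    · exact Or.inl ⟨h.2, h.1⟩
    · exact Or.inr ⟨h.2, h.1⟩
  · rw [← tensor_swap]; exact hle
  · intro h20
    obtain ⟨hs, hAa, hBa, hp⟩ := h2 h20
    refine ⟨⟨hs.2, hs.1⟩, hBa, hAa, fun u w => ?_⟩
    have : pureVec (e.trans (Equiv.prodComm (Fin k) (Fin d))) P u w = pureVec e P w u := by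
      unfold pureVec
      congr 1
      funext i
      simp only [Function.comp, Equiv.trans_apply, Equiv.prodComm_apply, Prod.fst_swap, Prod.snd_swap]
      ring
    rw [this]
    exact hp w u

/-- the normalised shape: symmetric factors in odd characteristic, or alternating factors with `Q` vanishing on pure tensors -/
theorem TensData.norm {Q : QuadraticForm F (Fin n → F)} {H : Subgroup (GL (Fin n) F)} {k d : ℕ}
    (h : TensData Q H k d) :
    ∃ (e : Fin n ≃ Fin k × Fin d) (P : GL (Fin n) F) (A : Matrix (Fin k) (Fin k) F) (B : Matrix (Fin d) (Fin d) F),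
      A.det ≠ 0 ∧ B.det ≠ 0 ∧ KrGram (QuadraticMap.polar (⇑Q)) e P A B ∧ H ≤ tensorProductSubgroup k d e P ∧
      (((2 : F) ≠ 0 ∧ Aᵀ = A ∧ Bᵀ = B) ∨
        (Aᵀ = -A ∧ Bᵀ = -B ∧ (∀ x, x ⬝ᵥ (A *ᵥ x) = 0) ∧ (∀ x, x ⬝ᵥ (B *ᵥ x) = 0) ∧
          ∀ (x₁ : Fin k → F) (x₂ : Fin d → F),
            Q ((P : Matrix (Fin n) (Fin n) F) *ᵥ (ptv x₁ x₂ ∘ e)) = 0)) := by
  obtain ⟨e, P, A, B, hA, hB, hsign, hAB, hle, h2⟩ := h
  have hK : KrGram (QuadraticMap.polar (⇑Q)) e P A B := hAB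
  refine ⟨e, P, A, B, hA.ne_zero, hB.ne_zero, hK, hle, ?_⟩
  by_cases h20 : (2 : F) = 0
  · right
    obtain ⟨⟨hAs, hBs⟩, hAa, hBa, hp⟩ := h2 h20
    have hneg : ∀ {r : ℕ} (M : Matrix (Fin r) (Fin r) F), -M = M := by
      intro r M
      have h11 : (-1 : F) = 1 := by linear_combination -h20
      rw [← neg_one_smul F M, h11, one_smul]
    exact ⟨by rw [hAs, hneg], by rw [hBs, hneg], Cfsg.Agent.Lib.helper8.ASEC.asec_diag_alt h20 A hAs hAa,
      Cfsg.Agent.Lib.helper8.ASEC.asec_diag_alt h20 B hBs hBa, fun x₁ x₂ => hp x₁ x₂⟩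
  · rcases hsign with h | h
    · exact Or.inl ⟨h20, h.1, h.2⟩
    · right
      have hAalt := Cfsg.Agent.Lib.helper8.ASEC.asec_skew_alt h20 A h.1
      have hBalt := Cfsg.Agent.Lib.helper8.ASEC.asec_skew_alt h20 B h.2
      refine ⟨h.1, h.2, hAalt, hBalt, fun x₁ x₂ => ?_⟩
      have h1 := spc_krGram_ptv _ e P A B hK x₁ x₁ x₂ x₂
      rw [hAalt, zero_mul, QuadraticMap.polar_self, two_smul, ← two_mul] at h1
      rcases mul_eq_zero.mp h1 with h3 | h3
      · exact absurd h3 h20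
      · exact h3

section tens

variable (Q : QuadraticForm F (Fin 12 → F)) (hQ : (QuadraticMap.polarBilin Q).Nondegenerate)
  (H : Subgroup (GL (Fin 12) F)) (hH : IsMaximalIn (omegaGL (⇑Q)) H) (hHO : H ≤ isometryGroup F (⇑Q))

include hQ hH hHO

/-- a pair of totally singular 6-spaces -/
theorem p12_pair {k : ℕ} (D : Fin 2 → Submodule F (Fin 12 → F)) (hD : IsMDecomposition k D)
    (hts : ∀ i, IsTotallySingularQuad (⇑Q) (D i)) (hle : H ≤ decompositionStabilizer D) : ConclP12 (⇑Q) H := by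
  have hcard := Cfsg.Agent.Lib.Helper28.Ld.card_eq _ hD
  have hk : k = 6 := by omega
  subst hk
  exact p12_alt13 _ _ ⟨D, hD, hts, max_principle hH hle
    (asepr_omega_not_le_dec_ge2 (by norm_num) Q hQ D hD (by norm_num))⟩

/-- a field of degree 2 -/
theorem p12_field2 (K : Subalgebra F (Matrix (Fin 12) (Fin 12) F)) (hK : IsFieldSubalgebra 2 K)
    (hle : H ≤ subalgebraNormalizer K) : ConclP12 (⇑Q) H :=
  p12_alt14 _ _ ⟨K, hK, max_principle hH hle (omega_not_le_field' (by norm_num) Q hQ (le_refl 2) K hK)⟩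

/-- tensor `2 ⊗ 6` -/
theorem p12_tens26 (h : TensData Q H 2 6) : ConclP12 (⇑Q) H := by
  classical
  obtain ⟨e, P, A, B, hAdet, hBdet, hK, hle, hcase⟩ := h.norm
  rcases hcase with ⟨h2, hAs, hBs⟩ | ⟨hAk, hBk, hAalt, hBalt, hpure⟩
  · rcases Cfsg.Agent.Lib.helper8.ASEC.asec_sym_dim2 h2 Q hHO (by norm_num) e P A B hAs hAdet hBdet hK hle with
      ⟨D, hD, hts, hleD⟩ | ⟨K, hKf, -, -, -, hleK⟩
    · exact p12_pair Q hQ H hH hHO D hD hts hleD
    · exact p12_field2 Q hQ H hH hHO K hKf hleK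
  · by_cases h3 : 3 ≤ Fintype.card F
    · obtain ⟨hf₁, hf₂, hT⟩ := Cfsg.Agent.Lib.helper8.ASEC.asec_forms_alt (QuadraticMap.polar (⇑Q)) e P A B
        hAdet hBdet hAk hBk hAalt hBalt hK
      exact p12_alt17 _ _ ⟨h3, e, P, formOfGram id A, formOfGram id B, hf₁, hf₂, hT, fun x₁ x₂ => hpure x₁ x₂,
        max_principle hH hle (asepr_omega_not_le_tensor (by norm_num) Q hQ (by norm_num) (by norm_num) e P)⟩
    · have hq : Fintype.card F = 2 := by
        have h1 : 1 < Fintype.card F := Fintype.one_lt_card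
        omega
      obtain ⟨K, hKf, hleK⟩ := Cfsg.Agent.Lib.helper7.LX.tensor2_q2 (by norm_num) e P hq
      exact p12_field2 Q hQ H hH hHO K hKf (hle.trans hleK)

/-- tensor `3 ⊗ 4` -/
theorem p12_tens34 (hplus : IsPlusTypeOn (⇑Q) ⊤) (hirr : Irr H) (h : TensData Q H 3 4) : ConclP12 (⇑Q) H := by
  classical
  obtain ⟨e, P, A, B, hA, hB, hsign, hAB, hle, -⟩ := h
  obtain ⟨h2, hAs, hBs⟩ := Cfsg.Agent.Lib.helper7.EM12.tens3_sym Q hQ hirr hHO (by norm_num) e P hle A B hA hB hsign hAB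
  have hBp := tens3_factor_plus h2 Q hQ hplus (by decide) e P A B hA.ne_zero hB.ne_zero hAs hBs hAB
  obtain ⟨e', P', f₁, f₂, hf₁, hf₂, hT, hpure, hmem⟩ := Cfsg.Agent.Lib.Helper1.T34.t34_plus_refine h2 Q e P A B
    hA.ne_zero hB.ne_zero hAs hBs hAB hBp
  have hle' : H ≤ tensorProductSubgroup 2 6 e' P' := by
    intro g hg
    refine hmem g (hle hg) (fun u v => asoadj_iso_polar Q g (hHO hg) u v) ?_
    obtain ⟨g', hg', rfl⟩ := hH.1.le hg
    exact Cfsg.Agent.Lib.Helper1.MEO.det_eq_one_of_mem_omega (⇑Q) g' hg'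
  exact p12_alt17 _ _ ⟨p12_three_le (asco_odd_card h2), e', P', f₁, f₂, hf₁, hf₂, hT, hpure,
    max_principle hH hle' (asepr_omega_not_le_tensor (by norm_num) Q hQ (by norm_num) (by norm_num) e' P')⟩

/-- every tensor decomposition -/
theorem p12_of_tens (hplus : IsPlusTypeOn (⇑Q) ⊤) (hirr : Irr H) {k d : ℕ} (hk : 2 ≤ k) (hd : 2 ≤ d)
    (h : TensData Q H k d) : ConclP12 (⇑Q) H := by
  have hkd : k * d = 12 := by
    obtain ⟨e, -⟩ := h
    have := Fintype.card_congr e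
    simpa using this.symm
  have hk12 : k ≤ 12 := by nlinarith
  have hd12 : d ≤ 12 := by nlinarith
  have hcases : (k = 2 ∧ d = 6) ∨ (k = 3 ∧ d = 4) ∨ (k = 4 ∧ d = 3) ∨ (k = 6 ∧ d = 2) := by
    clear h
    interval_cases k <;> interval_cases d <;> simp_all
  rcases hcases with ⟨rfl, rfl⟩ | ⟨rfl, rfl⟩ | ⟨rfl, rfl⟩ | ⟨rfl, rfl⟩
  · exact p12_tens26 Q hQ H hH hHO h
  · exact p12_tens34 Q hQ H hH hHO hplus hirr h
  · exact p12_tens34 Q hQ H hH hHO hplus hirr h.swap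
  · exact p12_tens26 Q hQ H hH hHO h.swap

end tens

end Cfsg.Agent.Lib.Helper26.E12P

namespace Cfsg.Agent.Lib.Helper26.E12P

open Cfsg Cfsg.Geo Cfsg.Agent.Lib.Helper27.ASC Cfsg.Agent.Lib.helper23.ASCO Cfsg.Agent.Lib.Helper19.ASG
  Cfsg.Agent.Lib.Helper25.ASO Cfsg.Agent.Lib.helper23.ASE
open scoped MatrixGroups Matrix Kronecker

variable {n : ℕ} {F : Type*} [Field F] [Fintype F]

/-- S5871 over a bundled form -/
theorem p12_fin (Q : QuadraticForm F (Fin 12 → F)) (hQ : (QuadraticMap.polarBilin Q).Nondegenerate)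
    (hplus : IsPlusTypeOn (⇑Q) ⊤) (H : Subgroup (GL (Fin 12) F))
    (hH : IsMaximalIn (omegaGL (⇑Q)) H) : ConclP12 (⇑Q) H := by
  classical
  have hHΩ : H ≤ omegaGL (⇑Q) := hH.1.le
  have hHO : H ≤ isometryGroup F (⇑Q) := hHΩ.trans (omega_le_iso _)
  have hstab : ∀ W : Submodule F (Fin 12 → F), W ≠ ⊥ → W ≠ ⊤ → H ≤ subspaceStabilizer W →
      H = subspaceStabilizer W ⊓ omegaGL (⇑Q) := fun W h0 h1 hle =>
    max_principle hH hle (omega_not_le_stab' (by norm_num) Q hQ W h0 h1)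
  -- a non-singular vector
  have hvec : ∀ v : Fin 12 → F, Q v ≠ 0 → H ≤ subspaceStabilizer (Submodule.span F {v}) → ConclP12 (⇑Q) H := by
    intro v hv hle
    obtain ⟨h0, h1, hfr⟩ := ase_span_facts (by norm_num) Q v hv
    by_cases h2 : (2 : F) = 0
    · exact p12_alt6 _ _ ⟨ase_not_odd_of_two h2, v, hv, hstab _ h0 h1 hle⟩
    · exact p12_alt2 _ _ ⟨asco_odd_card h2, _, h0, h1, by rw [hfr]; exact odd_one, by rw [hfr]; norm_num,
        ase_span_nd h2 Q v hv, hstab _ h0 h1 hle⟩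
  -- a non-degenerate plane
  have hplane : ∀ W : Submodule F (Fin 12 → F), Module.finrank F W = 2 →
      IsNondegenerateOn (QuadraticMap.polar (⇑Q)) W → H ≤ subspaceStabilizer W → ConclP12 (⇑Q) H := by
    intro W hd hnd hle
    obtain ⟨h0, h1⟩ := p12_proper hd (by norm_num) (by norm_num)
    by_cases hp : IsPlusTypeOn (⇑Q) W
    · by_cases h4 : 4 ≤ Fintype.card F
      · exact p12_alt4 _ _ ⟨h4, W, hd, hnd, hp, hstab W h0 h1 hle⟩
      · obtain ⟨v, -, hv, hst⟩ := plus_plane_small Q hQ (by omega) W hnd hd hp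
        exact hvec v hv ((le_inf hle hHO).trans hst)
    · exact p12_alt3 _ _ ⟨W, hd, hnd, hp, hstab W h0 h1 hle⟩
  -- a non-degenerate 4-space
  have hfour : ∀ W : Submodule F (Fin 12 → F), Module.finrank F W = 4 →
      IsNondegenerateOn (QuadraticMap.polar (⇑Q)) W → H ≤ subspaceStabilizer W → ConclP12 (⇑Q) H := by
    intro W hd hnd hle
    obtain ⟨h0, h1⟩ := p12_proper hd (by norm_num) (by norm_num)
    exact p12_alt5 _ _ ⟨W, hd, hnd, hstab W h0 h1 hle⟩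
  by_cases hirr : Irr H
  swap
  · -- Stage A
    rcases ered_case Q hQ hHO hirr with ⟨W, h0, hts, hle⟩ | ⟨W, h0, h1, hnd, hle⟩ | ⟨h2, v, hv, hle⟩
    · -- totally singular
      by_cases h5 : Module.finrank F W = 5
      · obtain ⟨U, hUts, hUfr, -, hst⟩ := Cfsg.Agent.Lib.Helper10.QFam.ts_submax_le
          (isNondegenerateQuadraticForm_coe Q hQ) (m := 6) (by norm_num) hplus W hts (by omega)
        obtain ⟨hb, -⟩ := p12_proper hUfr (by norm_num) (by norm_num)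
        exact p12_alt1 _ _ ⟨U, hb, hUts, by omega, hstab U hb (ase_ts_ne_top (by norm_num) Q hQ U hUts)
          ((le_inf hle hHΩ).trans hst)⟩
      · exact p12_alt1 _ _ ⟨W, h0, hts, h5, hstab W h0 (ase_ts_ne_top (by norm_num) Q hQ W hts) hle⟩
    · -- non-degenerate subspaces, by dimension
      have hlt : Module.finrank F W < 12 := by
        have h := Submodule.finrank_lt h1
        rwa [Module.finrank_fintype_fun_eq_card, Fintype.card_fin] at h
      have hpos : 0 < Module.finrank F W := Module.finrank_pos_iff_exists_ne_zero.mpr (by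
        obtain ⟨w, hw, hw0⟩ := (Submodule.ne_bot_iff W).mp h0
        exact ⟨⟨w, hw⟩, fun h => hw0 (congrArg Subtype.val h)⟩)
      rcases Nat.even_or_odd (Module.finrank F W) with hev | hodd
      · obtain ⟨j, hj⟩ := hev
        have hj' : j = 1 ∨ j = 2 ∨ j = 3 ∨ j = 4 ∨ j = 5 := by omega
        rcases hj' with rfl | rfl | rfl | rfl | rfl
        · exact hplane W (by omega) hnd hle
        · exact hfour W (by omega) hnd hle
        · obtain ⟨D, hD, -, hst⟩ := Cfsg.Agent.Lib.Helper18.QIso.qiso_half Q hQ (m := 6) (by norm_num) (by norm_num) (by decide)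
            hplus W hnd (by omega)
          exact p12_half Q hQ H hH hHO D hD ((le_inf hle hHO).trans hst)
        · obtain ⟨W', hdim, hnd', hst⟩ := end_perp Q hQ W hnd
          exact hfour W' (by omega) hnd' ((le_inf hle hHO).trans hst)
        · obtain ⟨W', hdim, hnd', hst⟩ := end_perp Q hQ W hnd
          exact hplane W' (by omega) hnd' ((le_inf hle hHO).trans hst)
      · exact p12_alt2 _ _ ⟨odd_card_of_nd_odd Q W hnd hodd, W, h0, h1, hodd, by
          obtain ⟨j, hj⟩ := hodd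
          omega, hnd, hstab W h0 h1 hle⟩
    · exact hvec v hv hle
  -- Stage B
  by_cases hD : AllNormalAbsIrr H
  swap
  · unfold AllNormalAbsIrr at hD
    push Not at hD
    obtain ⟨N, hN, hNs, hNa⟩ := hD
    rcases edichotomy (by norm_num) Q hQ hirr hHO hN with ⟨t, k, D, hDd, hle⟩ | ⟨k, D, hDd, hts, hle⟩ |
      ⟨r, K, hr, hdvd, hK, hle⟩ | ⟨k, d, e, P, A, B, hk, hd, hA, hB, hsign, hAB, hle, h2⟩ | h | h
    · exact p12_of_dec Q hQ H hH hHO hplus D hDd hle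
    · exact p12_pair Q hQ H hH hHO D hDd hts hle
    · have hr12 : r ≤ 12 := Nat.le_of_dvd (by norm_num) hdvd
      have hr23 : r = 2 ∨ r = 3 := by
        clear hK hle
        interval_cases r <;> simp_all (config := { decide := true })
      rcases hr23 with rfl | rfl
      · exact p12_field2 Q hQ H hH hHO K hK hle
      · exact p12_alt15 _ _ ⟨K, hK, max_principle hH hle
          (omega_not_le_field' (by norm_num) Q hQ (by norm_num) K hK)⟩
    · exact p12_of_tens Q hQ H hH hHO hplus hirr hk hd ⟨e, P, A, B, hA, hB, hsign, hAB, hle, h2⟩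
    · exact absurd h hNs
    · exact absurd h hNa
  obtain ⟨N, hNmin⟩ := exists_minNonscalar H (irr_not_scalar (by norm_num) hirr)
  have hNn : NormalIn N H := hNmin.1
  have hNO : N ≤ isometryGroup F (⇑Q) := hNn.1.trans hHO
  have hA : AbsIrr N := (hD N hNn).resolve_left hNmin.2.1
  have hcomm := commutator_normalIn hNn
  rcases hNmin.2.2 _ hcomm (Subgroup.commutator_le_self N) with hab | hperf
  · -- D1
    exfalso
    obtain ⟨a, ha⟩ := Cfsg.Agent.Lib.helper7.EM12.ed1_two_power (by norm_num) Q hQ hNO hA hab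
    have h3 : 3 ∣ 2 ^ a := by
      rw [← ha]
      norm_num
    have := (Nat.Prime.dvd_of_dvd_pow Nat.prime_three h3)
    omega
  · -- D2
    have hfix : ∀ h ∈ H, ∀ v : Fin 12 → F, Q ((h : Matrix (Fin 12) (Fin 12) F) *ᵥ v) = Q v :=
      fun h hh v => hHO hh v v
    rcases Cfsg.Agent.Lib.Helper9.QD2T.quad_perfect_rows (Or.inr (Or.inr rfl)) (⇑Q)
      (isNondegenerateQuadraticForm_coe Q hQ) hfix hirr hD hNmin hperf with ⟨hsimp, hnab⟩ | ⟨h8, -, -⟩
    swap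
    · omega
    by_cases hsub : ∃ F₀ : Subfield F, F₀ ≠ ⊤ ∧ RealisableOver F₀ (matrixSet N)
    · obtain ⟨F₀, h0, hR⟩ := hsub
      obtain ⟨F₁, ℓ, B, ζ, hℓ, hcard, hζ, hrat, hle⟩ := equad_rational (by norm_num) Q hQ hNn hA hHO F₀ h0 hR
      exact p12_alt18 _ _ ⟨F₁, ℓ, B, ζ, hℓ, hcard, hζ, hrat, max_principle hH hle
        (omega_not_le_subfield' (by norm_num) Q hQ F₁ (asco_ne_top_of_card_pow hℓ hcard) B)⟩
    · -- residual
      refine p12_alt19 _ _ ⟨N, ⟨hNn.1, hNn.2, hperf, hsimp, hnab, centralizer_scalar_of hNn hperf hA, hA, ?_⟩, ?_⟩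
      · intro F₀ h0 hR
        exact hsub ⟨F₀, h0, hR⟩
      · rintro ⟨σ, f, hf, hfix'⟩
        exact hsub (equad_unitary_realisable Q hQ hA hNO σ f hf hfix')

/-- S5871 -/
theorem s5871 : type_of% @Cfsg.CfsgFrozen.S5871 := by
  intro F _ _ Q hQ hplus H hH
  have := p12_fin (Cfsg.Agent.Lib.Helper28.OBundle.bundle Q hQ)
    (Cfsg.Agent.Lib.Helper28.OBundle.bundle_nondeg Q hQ) hplus H hH
  exact this

end Cfsg.Agent.Lib.Helper26.E12P
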